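import Cfsg.Agent.H859.SN.SpRow
import Cfsg.Agent.H316.RedQ
import Cfsg.Agent.LieClassical.FieldTransfer

/-!
# `PSp_{2n}(3)`, `n ≥ 3`: orders six and nine (helper859, S3831, E2b)

* `lr` : an automorphism of order three with `PS 2` of `PSp_{2n}(3)`, `n ≥ 2`, is a transvection;
* `r69_psp` : `R69 K` for `K ≃ PSp_{2n}(F)`, `|F| = 3`, `n ≥ 3`.
-/

set_option autoImplicit false
set_option linter.unusedSectionVars false

namespace Cfsg.Agent.H859.SN.SpRow

open Subgroup Cfsg Cfsg.Agent.ClassicalGeometry.SympBasic Cfsg.Agent.ClassicalGeometry.SympAutSemi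
  Cfsg.Agent.ClassicalGeometry.SympGamma Cfsg.Agent.H459.Rad Cfsg.Agent.H21.SN Cfsg.Agent.H859.SN.SpSec
  Cfsg.Agent.H959.Rad3

variable {n : ℕ}

local notation "V" => (Fin n ⊕ Fin n → ZMod 3)
local notation "⟪" u ", " v "⟫" => sympForm n (ZMod 3) u v

/-- **order three**, for automorphisms of `PSp_{2n}(3)` -/
theorem lr (hn : 2 ≤ n) {x : MulAut (PSp n (ZMod 3))} (hx : orderOf x = 3) (hP : PS 2 x) :
    ∃ (e : V) (c : ZMod 3), e ≠ 0 ∧ c ≠ 0 ∧ x = MulAut.conj (QuotientGroup.mk (transv e c)) := by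
  obtain ⟨g, hg, h3, hs⟩ := exists_odd hn (x := x) (k := 3) (by decide)
    (orderOf_dvd_iff_pow_eq_one.1 (dvd_of_eq hx))
  have hne : g.1 ≠ 1 := by
    intro h
    have : g = 1 := Subtype.ext h
    rw [this, map_one] at hg
    rw [← hg, orderOf_one] at hx
    omega
  obtain ⟨e, c, he, hc, h⟩ := lr_g hs h3 hne (hg.symm ▸ hP)
  refine ⟨e, c, he, hc, ?_⟩
  obtain ⟨A, hA, hA'⟩ := exists_matrix hs
  rw [← hg, hA']
  have : A = transv e c := by
    apply rho_injective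
    rw [hA]
    ext1 w
    rw [h, rho_transv]
  rw [this]

theorem card_lt (hn : 3 ≤ n) : Nat.card (PSp 2 (ZMod 3)) < Nat.card (PSp n (ZMod 3)) := by
  have h1 := Cfsg.Agent.S0245.result (F := ZMod 3) (q := 3) (by rw [ZMod.card]) n
  have h2 := Cfsg.Agent.S0246.result (F := ZMod 3) (q := 3) (by rw [ZMod.card]) n (by omega)
  have h3 : Nat.card (Matrix.symplecticGroup (Fin n) (ZMod 3)) = Nat.card (PSp n (ZMod 3)) *
      Nat.card (Subgroup.center (Matrix.symplecticGroup (Fin n) (ZMod 3))) :=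
    Subgroup.card_eq_card_quotient_mul_card_subgroup _
  rw [h1, h2, show Nat.gcd 2 (3 - 1) = 2 by norm_num] at h3
  rw [H316.Red.card_psp (by rw [ZMod.card])]
  have h4 : 3 ^ 9 ≤ 3 ^ (n ^ 2) := Nat.pow_le_pow_right (by norm_num) (by nlinarith)
  have h5 : 8 ≤ ∏ i ∈ Finset.range n, (3 ^ (2 * (i + 1)) - 1) := by
    have h6 : ∀ i ∈ Finset.range n, 1 ≤ 3 ^ (2 * (i + 1)) - 1 := by
      intro i _
      have : 3 ^ (2 * 1) ≤ 3 ^ (2 * (i + 1)) := Nat.pow_le_pow_right (by norm_num) (by omega)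
      omega
    have h7 := Finset.single_le_prod' h6 (Finset.mem_range.2 (show 0 < n by omega))
    simpa using h7
  have h8 : 3 ^ 9 * 8 ≤ 3 ^ (n ^ 2) * ∏ i ∈ Finset.range n, (3 ^ (2 * (i + 1)) - 1) := Nat.mul_le_mul h4 h5
  rw [h3] at h8
  norm_num at h8
  omega

/-- the induction hypothesis for four-dimensional sections -/
theorem ih_four (hn : 3 ≤ n) (hI : IH (Nat.card (PSp n (ZMod 3)))) {y : MulAut (PSp 2 (ZMod 3))}
    (hy : orderOf y = 6 ∨ orderOf y = 9) (hP : PS 2 y) : False := by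
  have hs := H316.Red.simple_psp (F := ZMod 3) (by rw [ZMod.card])
  refine hI (PSp 2 (ZMod 3)) ?_ (card_lt hn) y hy hP
  intro hc
  exact H316.Red.not_comm (H316.Red.card_psp (F := ZMod 3) (by rw [ZMod.card])) fun a b => hc.is_comm.comm a b

theorem coe_pow_secS {D : Fr n 2 (ZMod 3)} (p : D.St) (k : ℕ) :
    Psi 2 (ZMod 3) (D.secS p) ^ k = Psi 2 (ZMod 3) (D.secS (p ^ k)) := by
  rw [← map_pow, ← map_pow]

/-- **order nine** -/
theorem no_nine (hn : 3 ≤ n) (hI : IH (Nat.card (PSp n (ZMod 3)))) {x : MulAut (PSp n (ZMod 3))}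
    (hx : orderOf x = 9) (hP : PS 2 x) : False := by
  obtain ⟨g, hg, h9, hs⟩ := exists_odd (n := n) (by omega) (x := x) (k := 9) (by decide)
    (orderOf_dvd_iff_pow_eq_one.1 (dvd_of_eq hx))
  have hs3 : IsSemi (g ^ 3).1 (RingEquiv.refl _) 1 := by
    obtain ⟨l, -, hl⟩ := linear (g ^ 3)
    have : l = 1 := by
      obtain ⟨u, v, huv⟩ := exists_pair (n := n) (by omega)
      have h1 := hl.2.2 u v
      have h2 := form_pow hs 3 u v
      change ⟪(g.1 ^ 3) u, (g.1 ^ 3) v⟫ = _ at h1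
      rw [h2, huv] at h1
      simpa using h1.symm
    rwa [this] at hl
  have hgP : PS 2 (Psi n (ZMod 3) (g ^ 3)) := by
    rw [map_pow, hg]
    exact PS.pow hP 3
  have hne : (g ^ 3).1 ≠ 1 := by
    intro h
    have h1 : g ^ 3 = 1 := Subtype.ext h
    have h2 : x ^ 3 = 1 := by rw [← hg, ← map_pow, h1, map_one]
    have := orderOf_dvd_of_pow_eq_one h2
    rw [hx] at this
    omega
  obtain ⟨e, c, he, hc, h⟩ := lr_g hs3 (by
    change (g.1 ^ 3) ^ 3 = 1
    rw [← pow_mul]; exact h9) hne hgP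
  change ∀ w, (g.1 ^ 3) w = _ at h
  obtain ⟨N, hN⟩ : ∃ N : V → V, ∀ v, N v = g.1 v - v := ⟨_, fun _ => rfl⟩
  have hadd : ∀ u v, N (u + v) = N u + N v := fun u v => by rw [hN, hN, hN, hs.1]; abel
  have hsmul : ∀ (a : ZMod 3) v, N (a • v) = a • N v := fun a v => by
    rw [hN, hN, hs.2.1, RingEquiv.refl_apply, smul_sub]
  have hg' : ∀ v, g.1 v = v + N v := fun v => by rw [hN]; abel
  have I : ∀ u v, ⟪N u, v⟫ + ⟪u, N v⟫ + ⟪N u, N v⟫ = 0 := fun u v => by
    rw [hN, hN]; exact bas hs u v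
  have hN3 : ∀ v, N (N (N v)) = (c * ⟪v, e⟫) • e := fun v => by
    rw [cube hs N hN, h]; abel
  have z0 : ∀ u : V, ⟪u, 0⟫ = 0 := fun u => sympForm_zero_right u
  have z1 : ∀ u : V, ⟪0, u⟫ = 0 := fun u => sympForm_zero_left u
  have sf : ∀ u : V, ⟪u, u⟫ = 0 := fun u => sympForm_self u
  have sw : ∀ u v : V, ⟪v, u⟫ = -⟪u, v⟫ := fun u v => sympForm_swap v u
  -- `e` is fixed
  obtain ⟨u0, hu0⟩ : ∃ u, ⟪u, e⟫ ≠ 0 := by
    by_contra hcon
    push Not at hcon
    exact he (eq_zero_of_forall_sympForm_left hcon)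
  obtain ⟨u, hu⟩ : ∃ u, ⟪u, e⟫ = 1 := by
    refine ⟨⟪u0, e⟫ • u0, ?_⟩
    rw [sympForm_smul_left, sq_one _ hu0]
  obtain ⟨k, hk⟩ : ∃ k : ZMod 3, g.1 e = k • e := by
    have h1 : g.1 ((g.1 ^ 3) u) = (g.1 ^ 3) (g.1 u) := by
      rw [← Equiv.Perm.mul_apply, ← Equiv.Perm.mul_apply, ← pow_succ, ← pow_succ']
    rw [h, h, hs.1, hs.2.1, RingEquiv.refl_apply, hu, mul_one] at h1
    have h2 := add_left_cancel h1
    refine ⟨⟪g.1 u, e⟫, ?_⟩
    have h3 : c • (c • g.1 e) = c • ((c * ⟪g.1 u, e⟫) • e) := by rw [h2]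
    rw [smul_smul, smul_smul, sq_one c hc, ← mul_assoc, sq_one c hc, one_smul, one_mul] at h3
    exact h3
  have hk9 : ∀ j : ℕ, (g.1 ^ j) e = k ^ j • e := by
    intro j
    induction j with
    | zero => simp
    | succ j ih =>
      rw [pow_succ', Equiv.Perm.mul_apply, ih, hs.2.1, hk, smul_smul, RingEquiv.refl_apply, pow_succ]
  have hk1 : k = 1 := by
    have h1 := hk9 9
    rw [h9, Equiv.Perm.one_apply] at h1
    have h2 : k ^ 9 = 1 := by
      have h3 : ⟪u, e⟫ = ⟪u, k ^ 9 • e⟫ := congrArg (fun v => ⟪u, v⟫) h1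
      rw [sympForm_smul_right, hu, mul_one] at h3
      exact h3.symm
    have h3 : ∀ k : ZMod 3, k ^ 9 = 1 → k = 1 := by decide
    exact h3 k h2
  have hNe : N e = 0 := by rw [hN, hk, hk1, one_smul, sub_self]
  have hN4 : N (N (N (N u))) = 0 := by rw [hN3 u, hsmul, hNe, smul_zero]
  obtain ⟨κ, hκ⟩ : ∃ κ, ⟪N (N (N u)), u⟫ = κ := ⟨_, rfl⟩
  have hκ0 : κ ≠ 0 := by
    rw [← hκ, hN3, hu, sympForm_smul_left, sw, hu]
    have h3 : ∀ c : ZMod 3, c ≠ 0 → c * 1 * -1 ≠ 0 := by decide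
    exact h3 c hc
  have hκκ := sq_one κ hκ0
  have b1 : ⟪N (N (N u)), N u⟫ = 0 := by
    have h1 := I (N (N (N u))) u
    rw [hN4, z1, z1] at h1
    linear_combination h1
  have b2 : ⟪N (N (N u)), N (N u)⟫ = 0 := by
    have h1 := I (N (N (N u))) (N u)
    rw [hN4, z1, z1] at h1
    linear_combination h1
  have b3 : ⟪N (N u), N u⟫ = -κ := by
    have h1 := I (N (N u)) u
    rw [hκ, b1] at h1
    linear_combination h1
  have b4 : ⟪N (N u), u⟫ = κ := by
    have h1 := I (N u) u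
    rw [b3, sf] at h1
    linear_combination h1
  obtain ⟨α, hα⟩ : ∃ α, ⟪N u, u⟫ = α := ⟨_, rfl⟩
  have b5 : ⟪u, N u⟫ = -α := by rw [sw, hα]
  have b6 : ⟪u, N (N (N u))⟫ = -κ := by rw [sw, hκ]
  have b7 : ⟪N u, N (N (N u))⟫ = 0 := by rw [sw, b1, neg_zero]
  have b8 : ⟪N (N u), N (N (N u))⟫ = 0 := by rw [sw, b2, neg_zero]
  obtain ⟨D, hD, hD1, hD2, hD3, hD4⟩ := exists_D0 (e0 := N (N (N u))) (h0 := κ • (u + N u)) (e1 := N (N u))
    (h1 := (-κ) • N u + α • N (N (N u))) (g := g.1)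
    (by rw [sympForm_smul_right, sympForm_add_right, hκ, b1, add_zero, hκκ])
    (by
      rw [sympForm_add_right, sympForm_smul_right, sympForm_smul_right, b3, b8]
      linear_combination hκκ)
    b2
    (by rw [sympForm_add_right, sympForm_smul_right, sympForm_smul_right, b1, sf]; ring)
    (by rw [sympForm_smul_right, sympForm_add_right, b4, b3]; ring)
    (by
      rw [sympForm_smul_left, sympForm_add_right, sympForm_smul_right, sympForm_smul_right, sympForm_add_left,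
        sympForm_add_left, b5, b6, b7, sf]
      ring)
    g.2
    (by
      intro W w1 w2 w3 w4
      have w5 : N u ∈ W := by
        have e1 : N u = (-κ) • ((-κ) • N u + α • N (N (N u))) + (κ * α) • N (N (N u)) := by
          rw [smul_add, smul_smul, smul_smul, neg_mul_neg, hκκ, one_smul, add_assoc, ← add_smul]
          have : -κ * α + κ * α = 0 := by ring
          rw [this, zero_smul, add_zero]
        rw [e1]
        exact W.add_mem (W.smul_mem _ w4) (W.smul_mem _ w1)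
      refine ⟨?_, ?_, ?_, ?_⟩
      · rw [hg', hN4, add_zero]; exact w1
      · rw [hg', hsmul, hadd]
        exact W.add_mem w2 (W.smul_mem _ (W.add_mem w5 w3))
      · rw [hg']; exact W.add_mem w3 w1
      · rw [hg', hadd, hsmul, hsmul, hN4, smul_zero, add_zero]
        exact W.add_mem w4 (W.smul_mem _ w3))
  have hy := D.ps_sec hD (hg.symm ▸ hP)
  refine ih_four hn hI (Or.inr ?_) hy
  have h3 : Fact (Nat.Prime 3) := ⟨Nat.prime_three⟩
  refine orderOf_eq_prime_pow (p := 3) (n := 1) ?_ ?_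
  · rw [pow_one, coe_pow_secS]
    intro h1
    obtain ⟨c', hc'⟩ := D.scal_of_trivial (by norm_num) _ h1
    have h2 := hc' _ _ hD2 hD2
    change ⟪(g.1 ^ 3) _, _⟫ = _ at h2
    have h3 : (g.1 ^ 3) (κ • (u + N u)) = κ • (u + N u) + κ • N (N (N u)) := by
      have h4 := cube hs N hN (κ • (u + N u))
      rw [hsmul, hsmul, hsmul, hadd, hadd, hadd, hN4, add_zero] at h4
      rw [h4]; abel
    rw [h3, sf, mul_zero, sympForm_add_left, sf, zero_add, sympForm_smul_left, sympForm_smul_right,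
      sympForm_add_right, hκ, b1, add_zero, hκκ, mul_one] at h2
    exact hκ0 h2
  · rw [coe_pow_secS]
    have e2 : (⟨g.1, hD⟩ ^ 3 ^ (1 + 1) : D.St) = 1 := Subtype.ext h9
    rw [e2, map_one, map_one]

/-- **order six** -/
theorem no_six (hn : 3 ≤ n) (hI : IH (Nat.card (PSp n (ZMod 3)))) {x : MulAut (PSp n (ZMod 3))}
    (hx : orderOf x = 6) (hP : PS 2 x) : False := by
  obtain ⟨g0, hg0⟩ := exists_Psi (n := n) (by omega) x
  obtain ⟨l, hl, hs0⟩ := linear g0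
  have hx6 : x ^ 6 = 1 := orderOf_dvd_iff_pow_eq_one.1 (dvd_of_eq hx)
  obtain ⟨a, ha⟩ := exists_scal_of_Psi_eq_one (m := n) (by omega) (g0 ^ 6) (by rw [map_pow, hg0, hx6])
  have ha' : g0.1 ^ 6 = scal n (ZMod 3) a := ha
  have isP : ∀ k : ℕ, IsSemi (g0.1 ^ k) (RingEquiv.refl _) (l ^ k) := by
    intro k
    obtain ⟨l', -, hl'⟩ := linear (g0 ^ k)
    have : l' = l ^ k := by
      obtain ⟨u, v, huv⟩ := exists_pair (n := n) (by omega)
      have h1 := hl'.2.2 u v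
      have h2 := form_pow hs0 k u v
      change ⟪(g0.1 ^ k) u, (g0.1 ^ k) v⟫ = _ at h1
      rw [h2, huv] at h1
      simpa using h1.symm
    rwa [this] at hl'
  have hl4 : l ^ 4 = 1 := by
    have : ∀ l : ZMod 3, l ≠ 0 → l ^ 4 = 1 := by decide
    exact this l hl
  have hs4 : IsSemi (g0 ^ 4).1 (RingEquiv.refl _) 1 := by
    have := isP 4
    rwa [hl4] at this
  have hP4 : PS 2 (Psi n (ZMod 3) (g0 ^ 4)) := by
    rw [map_pow, hg0]
    exact PS.pow hP 4
  have hne4 : (g0 ^ 4).1 ≠ 1 := by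
    intro h
    have h1 : g0 ^ 4 = 1 := Subtype.ext h
    have h2 : x ^ 4 = 1 := by rw [← hg0, ← map_pow, h1, map_one]
    have := orderOf_dvd_of_pow_eq_one h2
    rw [hx] at this
    omega
  have h12 : (g0 ^ 4).1 ^ 3 = 1 := by
    change (g0.1 ^ 4) ^ 3 = 1
    rw [← pow_mul, show 4 * 3 = 6 * 2 by norm_num, pow_mul, ha', pow_two, scal_scal]
  obtain ⟨e, c, he, hc, h⟩ := lr_g hs4 h12 hne4 hP4
  change ∀ w, (g0.1 ^ 4) w = _ at h
  have z0 : ∀ u : V, ⟪u, 0⟫ = 0 := fun u => sympForm_zero_right u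
  have z1 : ∀ u : V, ⟪0, u⟫ = 0 := fun u => sympForm_zero_left u
  have sf : ∀ u : V, ⟪u, u⟫ = 0 := fun u => sympForm_self u
  have sw : ∀ u v : V, ⟪v, u⟫ = -⟪u, v⟫ := fun u v => sympForm_swap v u
  have dual : ∀ e : V, e ≠ 0 → ∃ u, ⟪u, e⟫ = 1 := by
    intro e he
    obtain ⟨u0, hu0⟩ : ∃ u, ⟪u, e⟫ ≠ 0 := by
      by_contra hcon
      push Not at hcon
      exact he (eq_zero_of_forall_sympForm_left hcon)
    refine ⟨⟪u0, e⟫ • u0, ?_⟩
    rw [sympForm_smul_left, sq_one _ hu0]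
  obtain ⟨u, hu⟩ := dual e he
  obtain ⟨k, hku, hk⟩ : ∃ k : ZMod 3, ⟪g0.1 u, e⟫ = k ∧ g0.1 e = k • e := by
    have h1 : g0.1 ((g0.1 ^ 4) u) = (g0.1 ^ 4) (g0.1 u) := by
      rw [← Equiv.Perm.mul_apply, ← Equiv.Perm.mul_apply, ← pow_succ, ← pow_succ']
    rw [h, h, hs0.1, hs0.2.1, RingEquiv.refl_apply, hu, mul_one] at h1
    have h2 := add_left_cancel h1
    refine ⟨⟪g0.1 u, e⟫, rfl, ?_⟩
    have h3 : c • (c • g0.1 e) = c • ((c * ⟪g0.1 u, e⟫) • e) := by rw [h2]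
    rw [smul_smul, smul_smul, sq_one c hc, ← mul_assoc, sq_one c hc, one_smul, one_mul] at h3
    exact h3
  have hk0 : k ≠ 0 := by
    rintro rfl
    rw [zero_smul] at hk
    have h1 := hs0.2.2 u e
    rw [hk, z0, hu, map_one, mul_one] at h1
    exact hl h1.symm
  have hl1 : l = 1 := by
    have h1 := hs0.2.2 u e
    rw [hk, sympForm_smul_right, hku, hu, map_one, mul_one, sq_one k hk0] at h1
    exact h1.symm
  -- normalise
  let s : semiSim n (ZMod 3) := ⟨scal n (ZMod 3) (Units.mk0 k hk0), scal_mem _⟩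
  obtain ⟨g, hgdef⟩ : ∃ g, g = s * g0 := ⟨_, rfl⟩
  have hg : Psi n (ZMod 3) g = x := by
    rw [hgdef, map_mul, hg0]
    have h3 : Psi n (ZMod 3) s = 1 := Psi_scal _ _
    rw [h3, one_mul]
  have hgv : ∀ v, g.1 v = k • g0.1 v := fun v => by rw [hgdef]; rfl
  have hge : g.1 e = e := by rw [hgv, hk, smul_smul, sq_one k hk0, one_smul]
  have hgp : ∀ j : ℕ, g.1 ^ j = scal n (ZMod 3) (Units.mk0 k hk0) ^ j * g0.1 ^ j := fun j => by
    rw [hgdef]
    exact (commute_scal _ g0).mul_pow j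
  have hg4 : g.1 ^ 4 = g0.1 ^ 4 := by
    have e2 : scal n (ZMod 3) (Units.mk0 k hk0) ^ 2 = 1 := by rw [pow_two, scal_scal]
    have e4 : scal n (ZMod 3) (Units.mk0 k hk0) ^ 4 = 1 := by
      rw [show 4 = 2 * 2 by norm_num, pow_mul, e2, one_pow]
    rw [hgp, e4, one_mul]
  have hg6 : g.1 ^ 6 = 1 := by
    have h1 : g.1 ^ 6 = scal n (ZMod 3) a := by
      have e2 : scal n (ZMod 3) (Units.mk0 k hk0) ^ 2 = 1 := by rw [pow_two, scal_scal]
      have e6 : scal n (ZMod 3) (Units.mk0 k hk0) ^ 6 = 1 := by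
        rw [show (6 : ℕ) = 2 * 3 by norm_num, pow_mul, e2, one_pow]
      rw [hgp, e6, one_mul, ← ha']
    have h2 : ∀ j : ℕ, (g.1 ^ j) e = e := by
      intro j
      induction j with
      | zero => rfl
      | succ j ih => rw [pow_succ, Equiv.Perm.mul_apply, hge, ih]
    have h3 := h2 6
    rw [h1, scal_apply] at h3
    have h4 : (a : ZMod 3) = 1 := by
      have h5 : ⟪u, (a : ZMod 3) • e⟫ = ⟪u, e⟫ := congrArg (fun v => ⟪u, v⟫) h3
      rw [sympForm_smul_right, hu, mul_one] at h5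
      exact h5
    rw [h1]
    ext1 v
    rw [scal_apply, h4, one_smul]
    rfl
  have hs : IsSemi g.1 (RingEquiv.refl _) 1 := by
    refine ⟨fun u v => ?_, fun a v => ?_, fun u v => ?_⟩
    · rw [hgv, hgv, hgv, hs0.1, smul_add]
    · rw [hgv, hgv, hs0.2.1, smul_comm]
    · rw [hgv, hgv, sympForm_smul_left, sympForm_smul_right, hs0.2.2, hl1, ← mul_assoc, sq_one k hk0, one_mul]
  have h : ∀ w, (g.1 ^ 4) w = w + (c * ⟪w, e⟫) • e := by rw [hg4]; exact h
  -- the involution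
  obtain ⟨t, ht⟩ : ∃ t, t = g.1 ^ 3 := ⟨_, rfl⟩
  have hst : IsSemi t (RingEquiv.refl _) 1 := by
    obtain ⟨l', -, hl'⟩ := linear (g ^ 3)
    have : l' = 1 := by
      obtain ⟨u, v, huv⟩ := exists_pair (n := n) (by omega)
      have h1 := hl'.2.2 u v
      have h2 := form_pow hs 3 u v
      change ⟪(g.1 ^ 3) u, (g.1 ^ 3) v⟫ = _ at h1
      rw [h2, huv] at h1
      simpa using h1.symm
    rw [this] at hl'
    rw [ht]
    exact hl'
  have htt : ∀ v, t (t v) = v := fun v => by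
    rw [← Equiv.Perm.mul_apply, ht, ← pow_add, hg6]; rfl
  have hgt : ∀ v, g.1 v = (g.1 ^ 4) (t v) := fun v => by
    rw [← Equiv.Perm.mul_apply, ht, ← pow_add, show 4 + 3 = 6 + 1 by norm_num, pow_add, hg6, one_mul, pow_one]
  have hte : t e = e := by
    rw [ht, pow_succ, pow_two, Equiv.Perm.mul_apply, Equiv.Perm.mul_apply, hge, hge, hge]
  have hform : ∀ u v, ⟪t u, t v⟫ = ⟪u, v⟫ := fun u v => by rw [hst.2.2, one_mul]; rfl
  -- a nonzero vector negated by `t`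
  obtain ⟨v, hv⟩ : ∃ v, v - t v ≠ 0 := by
    by_contra hcon
    push Not at hcon
    have h1 : g ^ 3 = 1 := by
      apply Subtype.ext
      change g.1 ^ 3 = 1
      rw [← ht]
      ext1 v
      exact (sub_eq_zero.1 (hcon v)).symm
    have h2 : x ^ 3 = 1 := by rw [← hg, ← map_pow, h1, map_one]
    have := orderOf_dvd_of_pow_eq_one h2
    rw [hx] at this
    omega
  obtain ⟨b, hb⟩ : ∃ b, b = v - t v := ⟨_, rfl⟩
  rw [← hb] at hv
  have htb : t b = -b := by rw [hb, map_sub' hst, htt]; abel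
  obtain ⟨w, hw⟩ := dual e he
  obtain ⟨w', hw'⟩ := dual b hv
  -- the two planes
  have hcross : ∀ u v, t u = u → t v = -v → ⟪u, v⟫ = 0 := by
    intro u v h1 h2
    have h3 := hform u v
    rw [h1, h2, sympForm_neg_right] at h3
    have h4 : ∀ a : ZMod 3, -a = a → a = 0 := by decide
    exact h4 _ h3
  obtain ⟨p, hp⟩ : ∃ p, p = w + t w := ⟨_, rfl⟩
  obtain ⟨q, hq⟩ : ∃ q, q = w' - t w' := ⟨_, rfl⟩
  have htp : t p = p := by rw [hp, hst.1, htt, add_comm]
  have htq : t q = -q := by rw [hq, map_sub' hst, htt]; abel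
  have hep : ⟪e, p⟫ = 1 := by
    have h1 : ⟪w, e⟫ = ⟪t w, e⟫ := by
      have := hform w e
      rw [hte] at this
      exact this.symm
    rw [hp, sympForm_add_right, sw (w) e, sw (t w) e, ← h1, hw]
    decide
  have hbq : ⟪b, q⟫ = 1 := by
    have h1 : ⟪t w', b⟫ = -⟪w', b⟫ := by
      have := hform w' b
      rw [htb, sympForm_neg_right] at this
      rw [← this, neg_neg]
    rw [hq, sympForm_sub_right, sw w' b, sw (t w') b, h1, hw']
    decide
  have heb := hcross e b hte htb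
  have heq := hcross e q hte htq
  have hpb := hcross p b htp htb
  have hpq := hcross p q htp htq
  have hgp' : g.1 p = p + (c * ⟪p, e⟫) • e := by rw [hgt, htp, h]
  have hpe : ⟪p, e⟫ = -1 := by rw [sw e p, hep]
  have hbe : ⟪b, e⟫ = 0 := by rw [sw e b, heb, neg_zero]
  have hqe : ⟪q, e⟫ = 0 := by rw [sw e q, heq, neg_zero]
  have hneg : ∀ y, t y = -y → ⟪y, e⟫ = 0 → g.1 y = -y := by
    intro y h1 h2
    rw [hgt, h1, h, sympForm_neg_left, h2, neg_zero, mul_zero, zero_smul, add_zero]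
  have hgb := hneg b htb hbe
  have hgq := hneg q htq hqe
  obtain ⟨D, hD, hD1, hD2, hD3, hD4⟩ := exists_D0 (e0 := e) (h0 := p) (e1 := b) (h1 := q) (g := g.1)
    hep hbq heb heq (by rw [sw p b, hpb, neg_zero]) hpq g.2
    (by
      intro W w1 w2 w3 w4
      refine ⟨?_, ?_, ?_, ?_⟩
      · rw [hge]; exact w1
      · rw [hgp']; exact W.add_mem w2 (W.smul_mem _ w1)
      · rw [hgb]; exact W.neg_mem w3
      · rw [hgq]; exact W.neg_mem w4)
  have hy := D.ps_sec hD (hg.symm ▸ hP)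
  refine ih_four hn hI (Or.inl ?_) hy
  obtain ⟨y, hydef⟩ : ∃ y, y = Psi 2 (ZMod 3) (D.secS ⟨g.1, hD⟩) := ⟨_, rfl⟩
  rw [← hydef]
  have hy6 : y ^ 6 = 1 := by
    rw [hydef, coe_pow_secS]
    have e2 : (⟨g.1, hD⟩ ^ 6 : D.St) = 1 := Subtype.ext hg6
    rw [e2, map_one, map_one]
  have hy2 : y ^ 2 ≠ 1 := by
    rw [hydef, coe_pow_secS]
    intro h1
    obtain ⟨c', hc'⟩ := D.scal_of_trivial (by norm_num) _ h1
    have h2 := hc' _ _ hD2 hD2
    change ⟪(g.1 ^ 2) _, _⟫ = _ at h2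
    rw [pow_two, Equiv.Perm.mul_apply, hgp', hs.1, hs.2.1, hgp', hge, hpe, sf, mul_zero, sympForm_add_left,
      sympForm_add_left, sympForm_smul_left, sympForm_smul_left, sf, hep] at h2
    have h3 : ∀ c : ZMod 3, c ≠ 0 → 0 + c * -1 * 1 + (RingEquiv.refl (ZMod 3)) (c * -1) * 1 ≠ 0 := by decide
    exact h3 c hc h2
  have hy3 : y ^ 3 ≠ 1 := by
    rw [hydef, coe_pow_secS]
    intro h1
    obtain ⟨c', hc'⟩ := D.scal_of_trivial (by norm_num) _ h1
    have h2 := hc' _ _ hD1 hD2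
    have h3 := hc' _ _ hD3 hD4
    change ⟪(g.1 ^ 3) _, _⟫ = _ at h2
    change ⟪(g.1 ^ 3) _, _⟫ = _ at h3
    rw [← ht, hte, hep] at h2
    rw [← ht, htb, sympForm_neg_left, hbq] at h3
    have h4 : (1 : ZMod 3) = -1 := h2.trans h3.symm
    revert h4
    decide
  have h6 : orderOf y ∣ 6 := orderOf_dvd_of_pow_eq_one hy6
  have h7 : ¬ orderOf y ∣ 2 := fun h => hy2 (orderOf_dvd_iff_pow_eq_one.1 h)
  have h8 : ¬ orderOf y ∣ 3 := fun h => hy3 (orderOf_dvd_iff_pow_eq_one.1 h)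
  have h9 : orderOf y ≤ 6 := Nat.le_of_dvd (by norm_num) h6
  interval_cases (orderOf y) <;> omega

/-- **`PSp_{2n}(3)`, `n ≥ 3`** -/
theorem r69_zmod (hn : 3 ≤ n) : R69 (PSp n (ZMod 3)) := by
  rintro x (hx | hx) hP - hI
  · exact no_six hn hI hx hP
  · exact no_nine hn hI hx hP

/-- **`PSp_{2n}(F)`, `|F| = 3`, `n ≥ 3`** -/
theorem r69_psp {K : Type*} [Group K] [Finite K] {F : Type} [Field F] [Fintype F] (hF : Fintype.card F = 3)
    (hn : 3 ≤ n) (e : Nonempty (K ≃* PSp n F)) : R69 K := by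
  obtain ⟨e⟩ := e
  have f := Cfsg.Agent.LieClassical.FieldTransfer.pspCongr n
    (FiniteField.ringEquivOfCardEq (K := F) (K' := ZMod 3) (by rw [hF, ZMod.card]))
  exact R69.congr (e.trans f) (r69_zmod hn)

end Cfsg.Agent.H859.SN.SpRow
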