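import Cfsg.Agent.H855.Rad3.SpFour
import Cfsg.Agent.H21.SN.Tools

/-!
# `PSp₄(3)`: the elements of order three with `PS 2` are the transvections (helper859, S3831, E2a(1))
-/

set_option autoImplicit false
set_option linter.unusedSectionVars false

namespace Cfsg.Agent.H859.SN.Four

open Subgroup Cfsg Matrix Cfsg.Agent.H459.Rad Cfsg.Agent.H959.Rad3 Cfsg.Agent.H855.Rad3.SpFour

/-- an element of order three of `Sp₄(3)` which generates a solvable group with each involution of `PSp₄(3)` is a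
transvection -/
theorem conj_T {A : Sp} (hA : A ^ 3 = 1) (hA1 : A ≠ 1) (hT : Inv (MulAut.conj (pj A))) :
    ∃ g : Sp, A = g * T * g⁻¹ ∨ A = g * (T * T) * g⁻¹ := by
  obtain ⟨g, hg⟩ := conj_mem hA
  obtain ⟨B, hB⟩ : ∃ B, B = g * A * g⁻¹ := ⟨_, rfl⟩
  rw [← hB] at hg
  have hB3 : B ^ 3 = 1 := by rw [hB, conj_pow, hA, mul_one, mul_inv_cancel]
  have hB1 : B ≠ 1 := by
    intro h
    apply hA1
    rw [hB] at h
    exact conj_eq_one_iff.1 h
  have hTB : Inv (MulAut.conj (pj B)) := by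
    have e : pj B = pj g * pj A * (pj g)⁻¹ := by rw [hB, map_mul, map_mul, map_inv]
    rw [e]
    exact hT.conj _
  have hAB : A = g⁻¹ * B * g := by rw [hB]; group
  clear hB
  have hm := mem_U.1 hg
  obtain ⟨p, x, z, w, h⟩ := hm
  have hc1 : B.1 * (B.1 * B.1) = 1 := by
    have h2 : B * (B * B) = 1 := by rw [← p3, hB3]
    exact congrArg (fun t : Sp => t.1) h2
  have hc2 : B.1 ≠ 1 := fun h2 => hB1 (Subtype.ext h2)
  have h1 : good B.1 := by
    rw [h] at hc1 hc2 ⊢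
    exact table p x z w hc1 hc2
  rcases h1 with ⟨i, h1⟩ | ⟨j, h1⟩
  · exfalso
    obtain ⟨h5, h5'⟩ := five_pj (u := B) (t := tS i) h1
    have ht : pj (tS i) * pj (tS i) = 1 := by
      rw [← map_mul, pj_eq_one]
      exact tM_sq i
    exact not_solvable_of_coprime (a := pj B) (b := pj (tS i)) (k := 1) (n := 5)
      (by rw [← map_pow, hB3, map_one]) (by rw [pow_one, pow_two, ht]) h5 (by norm_num) h5'
      (hTB.solvable center_P ht)
  · refine ⟨g⁻¹ * gS j, ?_⟩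
    rcases h1 with h1 | h1
    · left
      have h2 : B * gS j = gS j * T := Subtype.ext h1
      rw [hAB, show B = gS j * T * (gS j)⁻¹ by rw [← h2]; group]
      group
    · right
      have h2 : B * gS j = gS j * (T * T) := Subtype.ext h1
      rw [hAB, show B = gS j * (T * T) * (gS j)⁻¹ by rw [← h2]; group]
      group

theorem T_mulVec (v : Fin 2 ⊕ Fin 2 → ZMod 3) : TM *ᵥ v = v + v (Sum.inr 0) • Pi.single (Sum.inl 0) 1 := by
  revert v
  have h : ∀ i, TM *ᵥ (Pi.single i 1) = Pi.single i 1 + (Pi.single i 1 : Fin 2 ⊕ Fin 2 → ZMod 3) (Sum.inr 0) •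
      (Pi.single (Sum.inl 0) 1 : Fin 2 ⊕ Fin 2 → ZMod 3) := by
    decide +kernel
  intro v
  have e : v = ∑ i, v i • (Pi.single i 1 : Fin 2 ⊕ Fin 2 → ZMod 3) := by
    funext j
    simp [Finset.sum_apply, Pi.single_apply]
  conv_lhs => rw [e]
  rw [Matrix.mulVec_sum]
  simp only [Matrix.mulVec_smul, h, smul_add, Finset.sum_add_distrib, smul_smul]
  rw [← e, ← Finset.sum_smul]
  congr 2
  simp [Pi.single_apply]

/-- rank one -/
theorem rank_one {A : Sp} (hA : A ^ 3 = 1) (hT : Inv (MulAut.conj (pj A))) :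
    ∃ e : Fin 2 ⊕ Fin 2 → ZMod 3, ∀ v, ∃ c : ZMod 3, A.1 *ᵥ v = v + c • e := by
  rcases eq_or_ne A 1 with rfl | hA1
  · refine ⟨0, fun v => ⟨0, ?_⟩⟩
    show (1 : M4) *ᵥ v = _
    rw [Matrix.one_mulVec, smul_zero, add_zero]
  obtain ⟨g, hg⟩ := conj_T hA hA1 hT
  have hgg : ∀ v, g.1 *ᵥ ((g⁻¹ : Sp).1 *ᵥ v) = v := fun v => by
    rw [Matrix.mulVec_mulVec]
    have : g.1 * (g⁻¹ : Sp).1 = 1 := congrArg Subtype.val (mul_inv_cancel g)
    rw [this, Matrix.one_mulVec]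
  refine ⟨g.1 *ᵥ Pi.single (Sum.inl 0) 1, fun v => ?_⟩
  obtain ⟨w, hw⟩ : ∃ w, w = (g⁻¹ : Sp).1 *ᵥ v := ⟨_, rfl⟩
  have hgw : g.1 *ᵥ w = v := by rw [hw, hgg]
  rcases hg with hg | hg
  · refine ⟨w (Sum.inr 0), ?_⟩
    have e : A.1 = g.1 * TM * (g⁻¹ : Sp).1 := congrArg Subtype.val hg
    rw [e, ← Matrix.mulVec_mulVec, ← hw, ← Matrix.mulVec_mulVec, T_mulVec, Matrix.mulVec_add, Matrix.mulVec_smul, hgw]
  · refine ⟨w (Sum.inr 0) + w (Sum.inr 0), ?_⟩
    have e : A.1 = g.1 * (TM * TM) * (g⁻¹ : Sp).1 := congrArg Subtype.val hg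
    rw [e, ← Matrix.mulVec_mulVec, ← hw, ← Matrix.mulVec_mulVec, ← Matrix.mulVec_mulVec, T_mulVec w, T_mulVec,
      Matrix.mulVec_add, Matrix.mulVec_add, Matrix.mulVec_smul, hgw, Matrix.mulVec_smul, add_smul, add_assoc]
    congr 2
    simp

end Cfsg.Agent.H859.SN.Four
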