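import Mathlib
import Cfsg.Agent.ClassicalGeometry.SympAutSemi
import Cfsg.Agent.ClassicalGeometry.SympGamma
import Cfsg.Agent.S0765
import Cfsg.Agent.H21.SN.Tools

/-!
# Symplectic sections of automorphisms of `PSp` (helper859, S3831)

`Fr n m F` : a symplectic frame `E i, H i` (`i : Fin m`) of `F^{2n}` and a totally isotropic subspace `R` orthogonal to
it; `W = <E i, H i> + R`. A semisimilitude `g` stabilising `R` and `W` induces a semisimilitude `secS g` of
`W / R = F^{2m}`, and `PS k (Psi n F g) → PS k (Psi m F (secS g))`.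
-/

set_option autoImplicit false
set_option linter.unusedSectionVars false

namespace Cfsg.Agent.H859.SN.SpSec

open Subgroup Cfsg Cfsg.Agent.ClassicalGeometry.SympBasic Cfsg.Agent.ClassicalGeometry.SympAutSemi
  Cfsg.Agent.ClassicalGeometry.SympGamma Cfsg.Agent.H459.Rad Cfsg.Agent.H21.SN

variable {F : Type*} [Field F] {n m : ℕ}

/-- a symplectic frame and a totally isotropic subspace orthogonal to it -/
structure Fr (n m : ℕ) (F : Type*) [Field F] where
  /-- first half -/
  E : Fin m → (Fin n ⊕ Fin n → F)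
  /-- second half -/
  H : Fin m → (Fin n ⊕ Fin n → F)
  /-- the radical -/
  R : Submodule F (Fin n ⊕ Fin n → F)
  EE : ∀ i j, sympForm n F (E i) (E j) = 0
  HH : ∀ i j, sympForm n F (H i) (H j) = 0
  EH : ∀ i j, sympForm n F (E i) (H j) = if i = j then 1 else 0
  RE : ∀ r ∈ R, ∀ i, sympForm n F (E i) r = 0
  RH : ∀ r ∈ R, ∀ i, sympForm n F r (H i) = 0
  RR : ∀ r ∈ R, ∀ s ∈ R, sympForm n F r s = 0

namespace Fr

variable (D : Fr n m F)

/-- the embedding of the section -/
def io : (Fin m ⊕ Fin m → F) →ₗ[F] (Fin n ⊕ Fin n → F) where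
  toFun v := ∑ i, (v (.inr i) • D.E i + v (.inl i) • D.H i)
  map_add' u v := by
    rw [← Finset.sum_add_distrib]
    refine Finset.sum_congr rfl fun i _ => ?_
    simp only [Pi.add_apply, add_smul]
    abel
  map_smul' a v := by
    rw [RingHom.id_apply, Finset.smul_sum]
    refine Finset.sum_congr rfl fun i _ => ?_
    simp only [Pi.smul_apply, smul_eq_mul, mul_smul, smul_add]

/-- the projection onto the section -/
def pr : (Fin n ⊕ Fin n → F) →ₗ[F] (Fin m ⊕ Fin m → F) where
  toFun v := Sum.elim (fun i => sympForm n F (D.E i) v) (fun i => sympForm n F v (D.H i))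
  map_add' u v := by
    funext i
    rcases i with i | i
    · simp [sympForm_add_right]
    · simp [sympForm_add_left]
  map_smul' a v := by
    funext i
    rcases i with i | i
    · simp [sympForm_smul_right]
    · simp [sympForm_smul_left]

theorem io_apply (v : Fin m ⊕ Fin m → F) : D.io v = ∑ i, (v (.inr i) • D.E i + v (.inl i) • D.H i) := rfl

theorem pr_inl (v : Fin n ⊕ Fin n → F) (i : Fin m) : D.pr v (.inl i) = sympForm n F (D.E i) v := rfl

theorem pr_inr (v : Fin n ⊕ Fin n → F) (i : Fin m) : D.pr v (.inr i) = sympForm n F v (D.H i) := rfl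

theorem form_sum_left {ι : Type*} (s : Finset ι) (u : ι → (Fin n ⊕ Fin n → F)) (v : Fin n ⊕ Fin n → F) :
    sympForm n F (∑ i ∈ s, u i) v = ∑ i ∈ s, sympForm n F (u i) v := by
  classical
  induction s using Finset.induction_on with
  | empty => simp
  | insert i s hi ih => rw [Finset.sum_insert hi, Finset.sum_insert hi, sympForm_add_left, ih]

theorem form_io_left (u : Fin m ⊕ Fin m → F) (x : Fin n ⊕ Fin n → F) :
    sympForm n F (D.io u) x = sympForm m F u (D.pr x) := by
  rw [io_apply, form_sum_left, sympForm_eq_sum]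
  refine Finset.sum_congr rfl fun i _ => ?_
  rw [sympForm_add_left, sympForm_smul_left, sympForm_smul_left, pr_inl, pr_inr, sympForm_swap (D.H i) x]
  ring

theorem pr_E (i : Fin m) : D.pr (D.E i) = Pi.single (.inr i) 1 := by
  funext j
  rcases j with j | j
  · rw [pr_inl, D.EE]
    simp
  · rw [pr_inr, D.EH]
    simp [Pi.single_apply, eq_comm]

theorem pr_H (i : Fin m) : D.pr (D.H i) = Pi.single (.inl i) 1 := by
  funext j
  rcases j with j | j
  · rw [pr_inl, D.EH]
    simp [Pi.single_apply]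
  · rw [pr_inr, D.HH]
    simp

theorem pr_io (v : Fin m ⊕ Fin m → F) : D.pr (D.io v) = v := by
  rw [io_apply, map_sum]
  simp only [map_add, map_smul, pr_E, pr_H]
  funext j
  rcases j with j | j
  · simp [Finset.sum_apply, Pi.single_apply]
  · simp [Finset.sum_apply, Pi.single_apply]

theorem form_io (u v : Fin m ⊕ Fin m → F) : sympForm n F (D.io u) (D.io v) = sympForm m F u v := by
  rw [form_io_left, pr_io]

theorem pr_R {r : Fin n ⊕ Fin n → F} (hr : r ∈ D.R) : D.pr r = 0 := by
  funext j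
  rcases j with j | j
  · rw [pr_inl, D.RE r hr]; rfl
  · rw [pr_inr, D.RH r hr]; rfl

/-- membership in `W` -/
def InW (v : Fin n ⊕ Fin n → F) : Prop := v - D.io (D.pr v) ∈ D.R

theorem inW_io (v : Fin m ⊕ Fin m → F) : D.InW (D.io v) := by
  unfold InW
  rw [pr_io, sub_self]
  exact D.R.zero_mem

theorem inW_R {r : Fin n ⊕ Fin n → F} (hr : r ∈ D.R) : D.InW r := by
  unfold InW
  rw [pr_R D hr, map_zero, sub_zero]
  exact hr

theorem InW.add {u v : Fin n ⊕ Fin n → F} (hu : D.InW u) (hv : D.InW v) : D.InW (u + v) := by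
  unfold InW at *
  rw [map_add, map_add]
  have : u + v - (D.io (D.pr u) + D.io (D.pr v)) = (u - D.io (D.pr u)) + (v - D.io (D.pr v)) := by abel
  rw [this]
  exact D.R.add_mem hu hv

theorem InW.smul {u : Fin n ⊕ Fin n → F} (hu : D.InW u) (a : F) : D.InW (a • u) := by
  unfold InW at *
  rw [map_smul, map_smul, ← smul_sub]
  exact D.R.smul_mem _ hu

theorem io_E (i : Fin m) : D.io (Pi.single (.inr i) 1) = D.E i := by
  rw [io_apply]
  rw [Finset.sum_eq_single i]
  · simp
  · intro j _ hj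
    simp [hj]
  · simp

theorem io_H (i : Fin m) : D.io (Pi.single (.inl i) 1) = D.H i := by
  rw [io_apply]
  rw [Finset.sum_eq_single i]
  · simp
  · intro j _ hj
    simp [hj]
  · simp

theorem inW_E (i : Fin m) : D.InW (D.E i) := by
  rw [← io_E]; exact inW_io _ _

theorem inW_H (i : Fin m) : D.InW (D.H i) := by
  rw [← io_H]; exact inW_io _ _

theorem form_W {a b : Fin n ⊕ Fin n → F} (ha : D.InW a) (hb : D.InW b) :
    sympForm n F a b = sympForm m F (D.pr a) (D.pr b) := by
  have e1 : a = D.io (D.pr a) + (a - D.io (D.pr a)) := by abel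
  have e2 : b = D.io (D.pr b) + (b - D.io (D.pr b)) := by abel
  have h3 : sympForm n F (a - D.io (D.pr a)) b = 0 := by
    rw [e2, sympForm_add_right, D.RR _ ha _ hb, sympForm_swap, form_io_left, pr_R D ha]
    simp
  conv_lhs => rw [e1]
  rw [sympForm_add_left, h3, add_zero, form_io_left]

/-- the stabiliser -/
def St : Subgroup (Equiv.Perm (Fin n ⊕ Fin n → F)) where
  carrier := {p | p ∈ semiSim n F ∧ (∀ v, p v ∈ D.R ↔ v ∈ D.R) ∧ ∀ v, D.InW (p v) ↔ D.InW v}
  mul_mem' := by
    rintro p q ⟨hp, hp1, hp2⟩ ⟨hq, hq1, hq2⟩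
    exact ⟨mul_mem hp hq, fun v => (hp1 _).trans (hq1 _), fun v => (hp2 _).trans (hq2 _)⟩
  one_mem' := ⟨one_mem _, fun _ => Iff.rfl, fun _ => Iff.rfl⟩
  inv_mem' := by
    rintro p ⟨hp, hp1, hp2⟩
    refine ⟨inv_mem hp, fun v => ?_, fun v => ?_⟩
    · rw [← hp1, perm_apply_inv_self]
    · rw [← hp2, perm_apply_inv_self]

theorem semi_add {p : Equiv.Perm (Fin n ⊕ Fin n → F)} (hp : p ∈ semiSim n F) (u v : Fin n ⊕ Fin n → F) :
    p (u + v) = p u + p v := by
  obtain ⟨φ, l, hl, h⟩ := hp
  exact h.1 u v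

theorem pr_apply {p : Equiv.Perm (Fin n ⊕ Fin n → F)} (hp : p ∈ D.St) {w : Fin n ⊕ Fin n → F} (hw : D.InW w) :
    D.pr (p (D.io (D.pr w))) = D.pr (p w) := by
  have e : w = D.io (D.pr w) + (w - D.io (D.pr w)) := by abel
  conv_rhs => rw [e, semi_add hp.1, map_add, pr_R D ((hp.2.1 _).2 hw), add_zero]

/-- the induced permutation of the section -/
def sec : D.St →* Equiv.Perm (Fin m ⊕ Fin m → F) where
  toFun p :=
    { toFun := fun v => D.pr (p.1 (D.io v))
      invFun := fun v => D.pr ((p⁻¹ : D.St).1 (D.io v))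
      left_inv := fun v => by
        have h := pr_apply D (p⁻¹ : D.St).2 ((p.2.2.2 _).2 (D.inW_io v))
        have e : (p⁻¹ : D.St).1 (p.1 (D.io v)) = D.io v := perm_inv_apply_self p.1 _
        rw [e, pr_io] at h
        exact h
      right_inv := fun v => by
        have h := pr_apply D p.2 (((p⁻¹ : D.St).2.2.2 _).2 (D.inW_io v))
        have e : p.1 ((p⁻¹ : D.St).1 (D.io v)) = D.io v := perm_apply_inv_self p.1 _
        rw [e, pr_io] at h
        exact h }
  map_one' := by
    ext1 v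
    exact D.pr_io v
  map_mul' p q := by
    ext1 v
    exact (pr_apply D p.2 ((q.2.2.2 _).2 (D.inW_io v))).symm

theorem sec_apply (p : D.St) (v : Fin m ⊕ Fin m → F) : D.sec p v = D.pr (p.1 (D.io v)) := rfl

theorem sec_pr (p : D.St) {w : Fin n ⊕ Fin n → F} (hw : D.InW w) : D.sec p (D.pr w) = D.pr (p.1 w) :=
  pr_apply D p.2 hw

theorem sec_isSemi (p : D.St) {φ : F ≃+* F} {l : F} (h : IsSemi p.1 φ l) : IsSemi (D.sec p) φ l := by
  refine ⟨fun u v => ?_, fun a v => ?_, fun u v => ?_⟩
  · rw [sec_apply, map_add, h.1, map_add]; rfl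
  · rw [sec_apply, map_smul, h.2.1, map_smul]; rfl
  · rw [sec_apply, sec_apply, ← form_W D ((p.2.2.2 _).2 (D.inW_io u)) ((p.2.2.2 _).2 (D.inW_io v)), h.2.2, form_io]

/-- the induced semisimilitude of the section -/
def secS : D.St →* semiSim m F :=
  D.sec.codRestrict (semiSim m F) fun p => by
    obtain ⟨φ, l, hl, h⟩ := p.2.1
    exact ⟨φ, l, hl, sec_isSemi D p h⟩

theorem coe_secS (p : D.St) : (D.secS p : Equiv.Perm (Fin m ⊕ Fin m → F)) = D.sec p := rfl

/-- the stabiliser in `Sp` -/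
def Mh : Subgroup (Matrix.symplecticGroup (Fin n) F) := D.St.comap (rho n F)

theorem exists_fh (A : D.Mh) : ∃ B : Matrix.symplecticGroup (Fin m) F, rho m F B = D.sec ⟨rho n F A.1, A.2⟩ := by
  have h := sec_isSemi D ⟨rho n F A.1, A.2⟩ (isSemi_rho A.1)
  exact exists_rho_eq _ h.1 h.2.1 fun u v => by rw [h.2.2, one_mul]; rfl

/-- the action of the stabiliser on the section -/
noncomputable def fh : D.Mh →* Matrix.symplecticGroup (Fin m) F where
  toFun A := Classical.choose (D.exists_fh A)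
  map_one' := by
    apply rho_injective
    rw [Classical.choose_spec (D.exists_fh 1), map_one]
    have e : (⟨rho n F (1 : D.Mh).1, (1 : D.Mh).2⟩ : D.St) = 1 := Subtype.ext (map_one (rho n F))
    rw [e, map_one]
  map_mul' A B := by
    apply rho_injective
    rw [map_mul, Classical.choose_spec (D.exists_fh (A * B)), Classical.choose_spec (D.exists_fh A),
      Classical.choose_spec (D.exists_fh B), ← map_mul]
    congr 1
    exact Subtype.ext (map_mul (rho n F) A.1 B.1)

theorem rho_fh (A : D.Mh) : rho m F (D.fh A) = D.sec ⟨rho n F A.1, A.2⟩ := Classical.choose_spec (D.exists_fh A)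

theorem transv_mem (v : Fin m ⊕ Fin m → F) (c : F) : transv (D.io v) c ∈ D.Mh := by
  refine ⟨⟨_, _, one_ne_zero, isSemi_rho _⟩, fun x => ?_, fun x => ?_⟩
  · have key : ∀ c x, x ∈ D.R → rho n F (transv (D.io v) c) x ∈ D.R := by
      intro c x hx
      rw [rho_transv, sympForm_swap, form_io_left, pr_R D hx, sympForm_zero_right, neg_zero, mul_zero, zero_smul,
        add_zero]
      exact hx
    refine ⟨fun hx => ?_, key c x⟩
    have h := key (-c) _ hx
    rw [rho_transv, rho_transv, sympForm_add_left, sympForm_smul_left, sympForm_self, mul_zero, add_zero,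
      add_assoc, ← add_smul] at h
    have e : c * sympForm n F x (D.io v) + -c * sympForm n F x (D.io v) = 0 := by ring
    rwa [e, zero_smul, add_zero] at h
  · have key : ∀ c x, D.InW x → D.InW (rho n F (transv (D.io v) c) x) := by
      intro c x hx
      rw [rho_transv]
      exact hx.add D ((D.inW_io v).smul D _)
    refine ⟨fun hx => ?_, key c x⟩
    have h := key (-c) _ hx
    rw [rho_transv, rho_transv, sympForm_add_left, sympForm_smul_left, sympForm_self, mul_zero, add_zero,
      add_assoc, ← add_smul] at h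
    have e : c * sympForm n F x (D.io v) + -c * sympForm n F x (D.io v) = 0 := by ring
    rwa [e, zero_smul, add_zero] at h

theorem fh_transv (v : Fin m ⊕ Fin m → F) (c : F) : D.fh ⟨_, D.transv_mem v c⟩ = transv v c := by
  apply rho_injective
  ext1 x
  rw [rho_fh, sec_apply, rho_transv, rho_transv, map_add, map_smul, pr_io, pr_io, form_io]

theorem fh_surjective : Function.Surjective D.fh := by
  rw [← MonoidHom.range_eq_top, eq_top_iff]
  have hgen : transvGroup m F = ⊤ := Cfsg.Agent.S0765.result m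
  rw [← hgen, transvGroup, Subgroup.closure_le]
  rintro a ⟨v, c, h⟩
  have e : a = transv v c := Subtype.ext h
  rw [e]
  exact ⟨_, D.fh_transv v c⟩

/-- the stabiliser in `PSp` -/
def M : Subgroup (PSp n F) := D.Mh.map (QuotientGroup.mk' _)

/-- the restricted projection -/
def P : D.Mh →* D.M := (QuotientGroup.mk' (Subgroup.center (Matrix.symplecticGroup (Fin n) F))).subgroupMap D.Mh

theorem P_surjective : Function.Surjective D.P := MonoidHom.subgroupMap_surjective _ _

theorem P_coe (A : D.Mh) : (D.P A : PSp n F) = QuotientGroup.mk A.1 := rfl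

theorem ker_le : D.P.ker ≤ ((QuotientGroup.mk' (Subgroup.center (Matrix.symplecticGroup (Fin m) F))).comp D.fh).ker := by
  intro A hA
  have h1 : (QuotientGroup.mk A.1 : PSp n F) = 1 := congrArg Subtype.val (MonoidHom.mem_ker.1 hA)
  rw [QuotientGroup.eq_one_iff, LieClassical.SympCenter.mem_center_iff] at h1
  obtain ⟨a, ha⟩ := h1
  rw [MonoidHom.mem_ker, MonoidHom.comp_apply, QuotientGroup.mk'_apply, QuotientGroup.eq_one_iff,
    LieClassical.SympCenter.mem_center_iff]
  refine ⟨a, ?_⟩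
  rw [← Matrix.mulVec_injective.eq_iff]
  funext v
  have h2 : (D.fh A).1.mulVec v = rho m F (D.fh A) v := rfl
  rw [h2, rho_fh, sec_apply]
  have h3 : rho n F A.1 (D.io v) = a • D.io v := by
    rw [rho_apply, ha, Matrix.smul_mulVec, Matrix.one_mulVec]
  change D.pr (rho n F A.1 (D.io v)) = _
  rw [h3, map_smul, pr_io, Matrix.smul_mulVec, Matrix.one_mulVec]

/-- the action on the section -/
noncomputable def f : D.M →* PSp m F := D.P.liftOfSurjective D.P_surjective ⟨_, D.ker_le⟩

theorem f_P (A : D.Mh) : D.f (D.P A) = QuotientGroup.mk (D.fh A) :=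
  MonoidHom.liftOfRightInverse_comp_apply _ _ _ _ _

theorem f_surjective : Function.Surjective D.f := by
  intro y
  obtain ⟨B, rfl⟩ := QuotientGroup.mk_surjective y
  obtain ⟨A, rfl⟩ := D.fh_surjective B
  exact ⟨_, D.f_P A⟩

theorem conj_mem {g : semiSim n F} (hg : g.1 ∈ D.St) {A : Matrix.symplecticGroup (Fin n) F} (hA : A ∈ D.Mh) :
    conjHom n F g A ∈ D.Mh := by
  show rho n F (conjHom n F g A) ∈ D.St
  rw [rho_conjHom]
  exact mul_mem (mul_mem hg hA) (inv_mem hg)

theorem fh_conj {g : semiSim n F} (hg : g.1 ∈ D.St) (A : D.Mh) :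
    D.fh ⟨_, D.conj_mem hg A.2⟩ = conjHom m F (D.secS ⟨g.1, hg⟩) (D.fh A) := by
  apply rho_injective
  rw [rho_conjHom (D.secS ⟨g.1, hg⟩) (D.fh A), rho_fh, rho_fh, coe_secS, ← map_inv, ← map_mul, ← map_mul]
  congr 1
  exact Subtype.ext (rho_conjHom g A.1)

theorem M_inv {g : semiSim n F} (hg : g.1 ∈ D.St) : ∀ z ∈ D.M, Psi n F g z ∈ D.M := by
  rintro _ ⟨A, hA, rfl⟩
  exact ⟨_, D.conj_mem hg hA, rfl⟩

theorem f_Psi {g : semiSim n F} (hg : g.1 ∈ D.St) (z : D.M) :
    D.f ⟨Psi n F g z, D.M_inv hg z z.2⟩ = Psi m F (D.secS ⟨g.1, hg⟩) (D.f z) := by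
  obtain ⟨A, rfl⟩ := D.P_surjective z
  have e : (⟨Psi n F g (D.P A), D.M_inv hg _ (D.P A).2⟩ : D.M) = D.P ⟨_, D.conj_mem hg A.2⟩ := Subtype.ext rfl
  rw [e, f_P, f_P, Psi_mk, fh_conj]

/-- **sections of automorphisms** -/
theorem ps_sec [Finite F] {g : semiSim n F} (hg : g.1 ∈ D.St) {k : ℕ} (h : PS k (Psi n F g)) :
    PS k (Psi m F (D.secS ⟨g.1, hg⟩)) :=
  Cfsg.Agent.H21.SN.PS.sec h (D.M_inv hg) D.f D.f_surjective _ (D.f_Psi hg)

/-- an automorphism of the section which is trivial comes from a scalar -/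
theorem scal_of_trivial (hm : 1 ≤ m) (p : D.St) (h : Psi m F (D.secS p) = 1) :
    ∃ c : F, ∀ a b, D.InW a → D.InW b → sympForm n F (p.1 a) b = c * sympForm n F a b := by
  obtain ⟨c, hc⟩ := exists_scal_of_Psi_eq_one hm _ h
  refine ⟨c, fun a b ha hb => ?_⟩
  rw [form_W D ((p.2.2.2 _).2 ha) hb, form_W D ha hb, ← sec_pr D p ha, ← coe_secS, hc, scal_apply,
    sympForm_smul_left]

/-- a criterion for membership in the stabiliser -/
theorem mem_St [Finite F] {g : Equiv.Perm (Fin n ⊕ Fin n → F)} (hg : g ∈ semiSim n F) (hR : ∀ r ∈ D.R, g r ∈ D.R)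
    (hE : ∀ i, D.InW (g (D.E i))) (hH : ∀ i, D.InW (g (D.H i))) : g ∈ D.St := by
  have key : ∀ P : (Fin n ⊕ Fin n → F) → Prop, (∀ v, P v → P (g v)) → ∀ v, P (g v) ↔ P v := by
    intro P hP v
    refine ⟨fun h => ?_, hP v⟩
    have h1 : Set.MapsTo g {v | P v} {v | P v} := fun v hv => hP v hv
    have h2 : Function.Surjective h1.restrict := Finite.surjective_of_injective
      (h1.restrict_inj.2 g.injective.injOn)
    obtain ⟨w, hw⟩ := h2 ⟨g v, h⟩
    have hw' : g w.1 = g v := congrArg Subtype.val hw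
    rw [← g.injective hw']
    exact w.2
  obtain ⟨φ, l, hl, hs⟩ := id hg
  refine ⟨hg, key _ hR, key _ fun v hv => ?_⟩
  have e : v = D.io (D.pr v) + (v - D.io (D.pr v)) := by abel
  rw [e, hs.1]
  refine InW.add D ?_ (D.inW_R (hR _ hv))
  rw [io_apply]
  have h0 : D.InW 0 := D.inW_R D.R.zero_mem
  have hg0 : g 0 = 0 := by
    have := hs.1 0 0
    rw [add_zero] at this
    exact left_eq_add.1 this
  have hsum : ∀ s : Finset (Fin m), D.InW (g (∑ i ∈ s, (D.pr v (.inr i) • D.E i + D.pr v (.inl i) • D.H i))) := by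
    intro s
    induction s using Finset.induction_on with
    | empty => rw [Finset.sum_empty, hg0]; exact h0
    | insert i s hi ih =>
      rw [Finset.sum_insert hi, hs.1, hs.1, hs.2.1, hs.2.1]
      exact InW.add D (InW.add D ((hE i).smul D _) ((hH i).smul D _)) ih
  exact hsum _

end Fr

end Cfsg.Agent.H859.SN.SpSec
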